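import Cfsg.Agent.H829.Pw.BSeven

/-!
# The centralizers of the elements of order 7 of the Baby Monster, exact orders (helper630, for S5525)

`card_seven` : `|C_B(u)| = 564480` or `75264` for `u` of order 7. The lemmas `eq_of_mk`, `comm_of_mk`, `card_inf` are copied from
`H715/Mon/Exact.lean` (helper715).
-/

set_option autoImplicit false
set_option maxRecDepth 100000

open Subgroup

namespace Cfsg.Agent.H630.U33.Seven

open Cfsg
open Cfsg.Agent.LThreeMB (XX mk exists_mk mk_eq_one mk_eq_mk Zx self)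

universe u

section quot

variable {G : Type u} [Group G]

/-- involutions equal modulo `⟨y⟩` -/
theorem eq_of_mk {y s s' : G} {r : ℕ} (hr : Odd r) (hy : orderOf y = r) (h1 : s * s = 1) (h1' : s' * s' = 1)
    (hs : s * y = y * s) (hs' : s' * y = y * s') (h : mk y hs = mk y hs') : s = s' := by
  obtain ⟨i, hi⟩ := (mk_eq_mk hs hs').1 h
  have h2 : y ^ i * y ^ i = 1 := by
    have h3 : Commute s (y ^ i) := (show Commute s y from hs).zpow_right i
    calc y ^ i * y ^ i = (s * s) * (y ^ i * y ^ i) := by rw [h1, one_mul]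
      _ = s * (s * y ^ i) * y ^ i := by simp only [mul_assoc]
      _ = s * (y ^ i * s) * y ^ i := by rw [h3.eq]
      _ = (s * y ^ i) * (s * y ^ i) := by simp only [mul_assoc]
      _ = 1 := by rw [hi, h1']
  have h3 : (y ^ i) ^ r = 1 := by
    rw [← zpow_natCast, ← zpow_mul, mul_comm, zpow_mul, zpow_natCast, ← hy, pow_orderOf_eq_one, one_zpow]
  have h4 : y ^ i = 1 := by
    obtain ⟨k, hk⟩ := hr
    rw [hk, pow_succ, pow_mul, pow_two, h2, one_pow, one_mul] at h3
    exact h3
  rw [← hi, h4, mul_one]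

/-- elements commuting with an involution modulo `⟨y⟩` -/
theorem comm_of_mk {y s g : G} {r : ℕ} (hr : Odd r) (hy : orderOf y = r) (h1 : s * s = 1)
    (hs : s * y = y * s) (hg : g * y = y * g) (h : mk y hg * mk y hs = mk y hs * mk y hg) : g * s = s * g := by
  have h2 : (g * s * g⁻¹) * (g * s * g⁻¹) = 1 := by
    calc (g * s * g⁻¹) * (g * s * g⁻¹) = g * (s * s) * g⁻¹ := by group
      _ = 1 := by rw [h1]; group
  have h3 : mk y (LThreeMB.conj_comm hg hs) = mk y hs := by
    have h4 : mk y (LThreeMB.conj_comm hg hs) = mk y hg * mk y hs * (mk y hg)⁻¹ := rfl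
    rw [h4, h, mul_inv_cancel_right]
  exact mul_inv_eq_iff_eq_mul.1 (eq_of_mk hr hy h2 h1 _ hs h3)

/-- **`|C(y) ∩ C(s)| = |C_K(s)| r`**, `K = C(y)/⟨y⟩` -/
theorem card_inf [Finite G] {y s : G} {r : ℕ} (hr : Odd r) (hy : orderOf y = r) (hs2 : s * s = 1) (hs : s * y = y * s) :
    Nat.card ↥(centralizer ({y} : Set G) ⊓ centralizer ({s} : Set G)) =
      Nat.card (centralizer ({mk y hs} : Set (XX y))) * r := by
  let C : Subgroup G := centralizer ({y} : Set G)
  let H : Subgroup (XX y) := centralizer ({mk y hs} : Set (XX y))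
  let D : Subgroup C := H.comap (QuotientGroup.mk' (Zx y))
  have h1 : D.map C.subtype = C ⊓ centralizer ({s} : Set G) := by
    ext g
    constructor
    · rintro ⟨g, hg, rfl⟩
      refine ⟨g.2, ?_⟩
      have hg' := mem_centralizer_singleton_iff.1 (mem_comap.1 hg)
      exact mem_centralizer_singleton_iff.2
        (comm_of_mk hr hy hs2 hs (mem_centralizer_singleton_iff.1 g.2) hg')
    · rintro ⟨hg, hgs⟩
      refine ⟨⟨g, hg⟩, ?_, rfl⟩
      show (⟨g, hg⟩ : C) ∈ H.comap (QuotientGroup.mk' (Zx y))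
      rw [mem_comap, mem_centralizer_singleton_iff]
      apply congrArg (QuotientGroup.mk (s := Zx y))
      exact Subtype.ext (mem_centralizer_singleton_iff.1 hgs)
  have h0 : Nat.card ↥(centralizer ({y} : Set G) ⊓ centralizer ({s} : Set G)) = Nat.card D := by
    rw [← h1, card_map_of_injective C.subtype_injective]
  rw [h0]
  have h2 : D.index = H.index := index_comap_of_surjective _ (QuotientGroup.mk'_surjective _)
  have h3 := D.card_mul_index
  have h4 := H.card_mul_index
  have h5 : Nat.card C = Nat.card (XX y) * r := by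
    have h6 := (Zx y).card_eq_card_quotient_mul_card_subgroup
    have h7 : Nat.card (Zx y) = r := by
      show Nat.card (zpowers (self y)) = r
      rw [Nat.card_zpowers, ← hy]
      exact Subgroup.orderOf_mk y _
    rw [h7] at h6
    exact h6
  rw [h5, ← h4, h2] at h3
  have h6 : H.index ≠ 0 := index_ne_zero_of_finite
  refine Nat.eq_of_mul_eq_mul_right (Nat.pos_of_ne_zero h6) ?_
  calc Nat.card D * H.index = Nat.card H * H.index * r := h3
    _ = Nat.card H * r * H.index := by ring

end quot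

section He

open Cfsg.Agent.KFacts.He Cfsg.Agent.KFacts.He.Lv Cfsg.Agent.KFacts.He.TwoACent
open Cfsg.Spor Cfsg.Spor.He

/-- `|C(a)| = 161280` in `He` -/
theorem card_cent_a : Nat.card (centralizer ({gn .a} : Set He)) = 161280 := by
  have h1 : (L.subgroupOf (centralizer ({gn .a} : Set He))).index ∣ 2 := by
    refine H997.OutCard.index_dvd_two_of _ fun c d => ?_
    exact two (mem_centralizer_singleton_iff.1 c.2) (mem_centralizer_singleton_iff.1 d.2)
  have h2 := (L.subgroupOf (centralizer ({gn .a} : Set He))).card_mul_index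
  rw [Nat.card_congr (Subgroup.subgroupOfEquivOfLe CTwoTab.He.L_le_cent).toEquiv, CTwoTab.He.card_L] at h2
  have h3 : (L.subgroupOf (centralizer ({gn .a} : Set He))).index ≠ 1 := by
    intro h3
    rw [index_eq_one, eq_top_iff] at h3
    have h4 : s ∈ L := mem_subgroupOf.1 (h3 (mem_top (⟨s, mem_centralizer_singleton_iff.2 s_comm_a⟩ :
      centralizer ({gn .a} : Set He))))
    have h5 := s_conj_v
    rw [L_comm_v h4, mul_inv_cancel_right, mul_inv_cancel] at h5
    exact a_ne_one h5.symm
  rcases (Nat.dvd_prime Nat.prime_two).1 h1 with h4 | h4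
  · exact absurd h4 h3
  · rw [h4] at h2
    omega

end He

open Cfsg.Agent.BpTab Cfsg.Agent.CpAutBFive Cfsg.Agent.MFive
open Cfsg.Agent.MonsterX

/-- the centralizers of the involutions of `He` -/
theorem he_inv {H : Type*} [Group H] (h : Spor.IsoHe H) {τ : H} (hτ : orderOf τ = 2) :
    Nat.card ↥(centralizer ({τ} : Set H)) = 161280 ∨ Nat.card ↥(centralizer ({τ} : Set H)) = 21504 := by
  obtain ⟨e⟩ := h
  rw [LThreeB.card_centralizer_congr e τ]
  have h2 : orderOf (e τ) = 2 := by rw [MulEquiv.orderOf_eq, hτ]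
  have h3 : e τ * e τ = 1 := by rw [← pow_two, ← h2, pow_orderOf_eq_one]
  have h4 : e τ ≠ 1 := by
    intro h5
    rw [h5, orderOf_one] at h2
    norm_num at h2
  rcases CTwoTab.He.classes h3 h4 with hc | hc
  · right
    rw [H829.Pw.card_cent_of_isConj hc]
    exact KFacts.He.Cent.card_cent
  · left
    rw [H829.Pw.card_cent_of_isConj hc]
    exact card_cent_a

/-- **The centralizers of the elements of order 7 of the Baby Monster.** -/
theorem card_seven {L : Type u} [Group L] (h : Spor.IsoB L) {u : L} (hu : orderOf u = 7) :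
    Nat.card (centralizer ({u} : Set L)) = 564480 ∨ Nat.card (centralizer ({u} : Set L)) = 75264 := by
  have hfin : Finite H630.Baby.Mon := MThirteen.Row.finite
  have hL : Finite L := Nat.finite_of_card_ne_zero (by rw [NotCT.Orders.b h]; norm_num)
  obtain ⟨t, x, ht, hx, hxt, hc⟩ := H630.Baby.exists_lift_card h (by norm_num) (by norm_num) hu
  obtain ⟨g, hg⟩ := H829.Pw.exists_he (v := t) ht hx hxt
  have hx' : orderOf (g⁻¹ * x * g) = 7 := by
    have h6 := MulEquiv.orderOf_eq (MulAut.conj g⁻¹) x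
    rw [MulAut.conj_apply, inv_inv] at h6
    rw [h6, hx]
  have ht' : orderOf (g⁻¹ * t * g) = 2 := by
    have h6 := MulEquiv.orderOf_eq (MulAut.conj g⁻¹) t
    rw [MulAut.conj_apply, inv_inv] at h6
    rw [h6]
    exact MThirteen.Row.ta_order ht
  have htt : g⁻¹ * t * g * (g⁻¹ * t * g) = 1 := by rw [← pow_two, ← ht', pow_orderOf_eq_one]
  have hxt' : g⁻¹ * t * g * (g⁻¹ * x * g) = g⁻¹ * x * g * (g⁻¹ * t * g) := by
    calc g⁻¹ * t * g * (g⁻¹ * x * g) = g⁻¹ * (t * x) * g := by group
      _ = g⁻¹ * (x * t) * g := by rw [hxt]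
      _ = _ := by group
  have h1 : Nat.card ↥(LThreeB.XT x t) = Nat.card ↥(LThreeB.XT (g⁻¹ * x * g) (g⁻¹ * t * g)) := by
    have h2 := Nat.card_congr (LThreeB.conjXT g⁻¹ x t).toEquiv
    rw [inv_inv] at h2
    exact h2
  have h2 := card_inf (r := 7) (by decide) hx' htt hxt'
  have hτ : orderOf (mk (g⁻¹ * x * g) hxt') = 2 := by
    refine orderOf_eq_prime ?_ ?_
    · rw [pow_two]
      show mk (g⁻¹ * x * g) hxt' * mk (g⁻¹ * x * g) hxt' = 1
      refine (congrArg (QuotientGroup.mk (s := Zx (g⁻¹ * x * g))) (Subtype.ext ?_)).trans (QuotientGroup.mk_one _)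
      exact htt
    · intro h0
      have h3 : g⁻¹ * t * g = 1 := by
        refine eq_of_mk (r := 7) (s := g⁻¹ * t * g) (s' := 1) (by decide) hx' htt (one_mul 1) hxt' (by rw [one_mul, mul_one]) ?_
        rw [h0]
        rfl
      rw [h3, orderOf_one] at ht'
      norm_num at ht'
  change Nat.card ↥(LThreeB.XT (g⁻¹ * x * g) (g⁻¹ * t * g)) = _ at h2
  rw [← h1, hc] at h2
  rcases he_inv hg hτ with h3 | h3
  · left
    rw [h3] at h2
    omega
  · right
    rw [h3] at h2
    omega

end Cfsg.Agent.H630.U33.Seven
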